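import Mathlib.Algebra.MvPolynomial.Derivation
import Mathlib.Algebra.MvPolynomial.PDeriv
import Mathlib.RingTheory.MvPolynomial.Homogeneous
import Mathlib.RingTheory.Derivation.Lie
import Mathlib.LinearAlgebra.Projection
import Mathlib.RingTheory.MvPolynomial.EulerIdentity
import Mathlib.RingTheory.Polynomial.Basic
import Mathlib.RingTheory.Adjoin.FG
import Mathlib.LinearAlgebra.FiniteDimensional.Lemmas
import Mathlib.RingTheory.MvPolynomial.Basic
import Mathlib.Tactic.LinearCombination

/-!
# Invariants of sl₂ acting linearly on a polynomial ring in characteristic zero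

The Casimir operator gives a Reynolds projection and Hilbert's argument finite generation.
-/

set_option autoImplicit false

open MvPolynomial

namespace GrothLib.Weitz

universe u v

variable {k : Type u} [Field k] {σ : Type v} [Finite σ]

/-- A derivation with linear values preserves homogeneity. -/
theorem isHomogeneous_deriv {D : Derivation k (MvPolynomial σ k) (MvPolynomial σ k)}
    (hD : ∀ v, (D (X v)).IsHomogeneous 1) {p : MvPolynomial σ k} {m : ℕ} (hp : p.IsHomogeneous m) :
    (D p).IsHomogeneous m := by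
  have := Fintype.ofFinite σ
  have happ : ∀ (f : σ → Derivation k (MvPolynomial σ k) (MvPolynomial σ k)) (q : MvPolynomial σ k),
      (∑ v, f v) q = ∑ v, f v q := fun f q =>
    (congrFun (map_sum Derivation.coeFnAddMonoidHom f Finset.univ) q).trans (Finset.sum_apply _ _ _)
  have h : D = ∑ v, D (X v) • (pderiv v : Derivation k (MvPolynomial σ k) (MvPolynomial σ k)) := by
    classical
    refine MvPolynomial.derivation_ext fun w => ?_
    rw [happ]
    simp [Pi.single_apply]
  rw [h, happ]
  refine IsHomogeneous.sum _ _ _ fun v _ => ?_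
  rw [Derivation.smul_apply, smul_eq_mul]
  rcases m with _ | m
  · obtain ⟨c, rfl⟩ : ∃ c, p = C c := ⟨coeff 0 p, (totalDegree_eq_zero_iff_eq_C.1
      (Nat.le_zero.1 hp.totalDegree_le))⟩
    simpa using isHomogeneous_zero σ k 0
  · simpa [add_comm] using (hD v).mul hp.pderiv

theorem comp_deriv {D : Derivation k (MvPolynomial σ k) (MvPolynomial σ k)}
    (hD : ∀ v, (D (X v)).IsHomogeneous 1) (p : MvPolynomial σ k) (m : ℕ) :
    homogeneousComponent m (D p) = D (homogeneousComponent m p) := by
  conv_lhs => rw [← sum_homogeneousComponent p, map_sum, map_sum]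
  rw [Finset.sum_eq_single m]
  · exact homogeneousComponent_eq_self (isHomogeneous_deriv hD (homogeneousComponent_isHomogeneous m p))
  · intro b _ hb
    rw [homogeneousComponent_of_mem (isHomogeneous_deriv hD (homogeneousComponent_isHomogeneous b p))]
    exact if_neg (Ne.symm hb)
  · intro h
    rw [Finset.mem_range, not_lt] at h
    rw [homogeneousComponent_eq_zero (n := m) (φ := p) (by omega)]
    simp

/-- A linear action of `sl₂` on a polynomial ring with integral weights. -/
structure SL2 (k : Type u) [Field k] (σ : Type v) where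
  E : Derivation k (MvPolynomial σ k) (MvPolynomial σ k)
  F : Derivation k (MvPolynomial σ k) (MvPolynomial σ k)
  H : Derivation k (MvPolynomial σ k) (MvPolynomial σ k)
  wt : σ → ℤ
  hH : ∀ v, H (X v) = (wt v : k) • X v
  degE : ∀ v, (E (X v)).IsHomogeneous 1
  degF : ∀ v, (F (X v)).IsHomogeneous 1
  ef : ∀ v, E (F (X v)) - F (E (X v)) = H (X v)
  he : ∀ v, H (E (X v)) - E (H (X v)) = (2 : k) • E (X v)
  hf : ∀ v, H (F (X v)) - F (H (X v)) = (-2 : k) • F (X v)

namespace SL2

variable (S : SL2 k σ)

local notation "P" => MvPolynomial σ k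

theorem efq (q : P) : S.E (S.F q) - S.F (S.E q) = S.H q := by
  have h : ⁅S.E, S.F⁆ = S.H := MvPolynomial.derivation_ext fun v => by
    rw [Derivation.commutator_apply]; exact S.ef v
  rw [← Derivation.commutator_apply, h]

theorem heq (q : P) : S.H (S.E q) = S.E (S.H q) + (2 : k) • S.E q := by
  have h : ⁅S.H, S.E⁆ = (2 : k) • S.E := MvPolynomial.derivation_ext fun v => by
    rw [Derivation.commutator_apply]; exact S.he v
  rw [← Derivation.smul_apply, ← h, Derivation.commutator_apply]; ring

theorem hfq (q : P) : S.H (S.F q) = S.F (S.H q) + (-2 : k) • S.F q := by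
  have h : ⁅S.H, S.F⁆ = (-2 : k) • S.F := MvPolynomial.derivation_ext fun v => by
    rw [Derivation.commutator_apply]; exact S.hf v
  rw [← Derivation.smul_apply, ← h, Derivation.commutator_apply]; ring

theorem degH (v : σ) : (S.H (X v)).IsHomogeneous 1 := by
  rw [S.hH]
  exact (homogeneousSubmodule σ k 1).smul_mem _ (isHomogeneous_X k v)

/-- The weight of a monomial. -/
def mwt (m : σ →₀ ℕ) : ℤ := m.sum fun v a => (a : ℤ) * S.wt v

theorem H_monomial (m : σ →₀ ℕ) (c : k) : S.H (monomial m c) = (S.mwt m : k) • monomial m c := by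
  classical
  induction m using Finsupp.induction generalizing c with
  | zero => simp [mwt]
  | single_add v a m hv ha ih =>
    have h : monomial (Finsupp.single v a + m) c = X v ^ a * monomial m c := by
      rw [X_pow_eq_monomial, monomial_mul, one_mul]
    have hw : S.mwt (Finsupp.single v a + m) = (a : ℤ) * S.wt v + S.mwt m := by
      rw [mwt, Finsupp.sum_add_index' (by simp) (by intros; push_cast; ring)]
      simp [mwt]
    rw [h, hw, Derivation.leibniz, ih, Derivation.leibniz_pow, S.hH]
    obtain ⟨a, rfl⟩ := Nat.exists_eq_succ_of_ne_zero ha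
    simp only [Nat.succ_sub_one, smul_eq_mul, MvPolynomial.smul_eq_C_mul, nsmul_eq_mul, pow_succ]
    push_cast
    simp only [map_add, map_mul, map_natCast, map_one]
    ring

theorem coeff_H (q : P) (m : σ →₀ ℕ) : coeff m (S.H q) = (S.mwt m : k) * coeff m q := by
  classical
  induction q using MvPolynomial.induction_on' with
  | monomial n c =>
    rw [H_monomial, coeff_smul, coeff_monomial, smul_eq_mul]
    split_ifs with h
    · subst h; rfl
    · simp
  | add p q hp hq => simp [map_add, hp, hq, mul_add]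

variable [CharZero k]

/-- Weight vectors. -/
def HasWt (q : P) (l : ℤ) : Prop := S.H q = (l : k) • q

theorem mwt_eq {q : P} {l : ℤ} (h : S.HasWt q l) {m : σ →₀ ℕ} (hm : coeff m q ≠ 0) : S.mwt m = l := by
  have := congrArg (coeff m) h
  rw [coeff_H, coeff_smul, smul_eq_mul] at this
  exact_mod_cast mul_right_cancel₀ hm this

open Classical in
/-- The component of a given weight. -/
noncomputable def wcomp (l : ℤ) (q : P) : P := ∑ m ∈ q.support with S.mwt m = l, monomial m (coeff m q)

theorem hasWt_wcomp (l : ℤ) (q : P) : S.HasWt (S.wcomp l q) l := by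
  rw [HasWt, wcomp, map_sum, Finset.smul_sum]
  refine Finset.sum_congr rfl fun m hm => ?_
  rw [H_monomial, (Finset.mem_filter.1 hm).2]

theorem sum_wcomp (q : P) : ∑ l ∈ q.support.image S.mwt, S.wcomp l q = q := by
  classical
  conv_rhs => rw [as_sum q]
  exact Finset.sum_fiberwise_of_maps_to (fun m hm => Finset.mem_image_of_mem _ hm) _

theorem hasWt_E {q : P} {l : ℤ} (h : S.HasWt q l) : S.HasWt (S.E q) (l + 2) := by
  rw [HasWt, heq, h, Derivation.map_smul, ← add_smul]; push_cast; ring_nf

theorem hasWt_F {q : P} {l : ℤ} (h : S.HasWt q l) : S.HasWt (S.F q) (l - 2) := by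
  rw [HasWt, hfq, h, Derivation.map_smul, ← add_smul]; push_cast; ring_nf

/-- A linear map shifting weights which kills `q` kills its weight components. -/
theorem wcomp_eq_zero (T : P →ₗ[k] P) (c : ℤ) (hT : ∀ (q : P) (l : ℤ), S.HasWt q l → S.HasWt (T q) (l + c))
    {q : P} (hq : T q = 0) (l : ℤ) : T (S.wcomp l q) = 0 := by
  classical
  by_cases hl : l ∈ q.support.image S.mwt
  swap
  · have : S.wcomp l q = 0 := by
      refine Finset.sum_eq_zero fun m hm => absurd ?_ hl
      rw [Finset.mem_filter] at hm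
      exact hm.2 ▸ Finset.mem_image_of_mem _ hm.1
    rw [this, map_zero]
  ext m
  rw [coeff_zero]
  by_contra hm
  have hml := S.mwt_eq (hT _ _ (S.hasWt_wcomp l q)) hm
  have h2 := congrArg (coeff m) hq
  rw [← S.sum_wcomp q, map_sum, coeff_sum, coeff_zero, Finset.sum_eq_single l] at h2
  · exact hm h2
  · intro b _ hb
    by_contra h
    have := S.mwt_eq (hT _ _ (S.hasWt_wcomp b q)) h
    omega
  · exact fun h => absurd hl h

theorem hasWt_iter_E {q : P} {l : ℤ} (h : S.HasWt q l) (r : ℕ) : S.HasWt (S.E^[r] q) (l + 2 * r) := by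
  induction r with
  | zero => simpa using h
  | succ r ih =>
    rw [Function.iterate_succ_apply']
    convert S.hasWt_E ih using 1
    push_cast; ring

theorem hasWt_iter_F {q : P} {l : ℤ} (h : S.HasWt q l) (r : ℕ) : S.HasWt (S.F^[r] q) (l - 2 * r) := by
  induction r with
  | zero => simpa using h
  | succ r ih =>
    rw [Function.iterate_succ_apply']
    convert S.hasWt_F ih using 1
    push_cast; ring

omit [CharZero k] in
theorem deg_iter {D : Derivation k P P} (hD : ∀ v, (D (X v)).IsHomogeneous 1) (q : P) (r : ℕ) :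
    (D^[r] q).totalDegree ≤ q.totalDegree := by
  induction r with
  | zero => rfl
  | succ r ih =>
    rw [Function.iterate_succ_apply']
    refine le_trans ?_ ih
    generalize D^[r] q = p
    refine Finset.sup_le fun m hm => ?_
    by_contra h
    push Not at h
    have hc : coeff m (D p) = coeff m (homogeneousComponent (Finsupp.degree m) (D p)) := by
      rw [coeff_homogeneousComponent]; simp
    rw [comp_deriv hD, homogeneousComponent_eq_zero _ _ (by simpa [Finsupp.degree, Finsupp.sum] using h),
      map_zero, coeff_zero] at hc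
    exact (mem_support_iff.1 hm) hc

theorem eventually_zero {D : Derivation k P P} (hD : ∀ v, (D (X v)).IsHomogeneous 1)
    {q : P} {l : ℤ} (s : ℤ) (hs : s ≠ 0) (hw : ∀ r : ℕ, S.HasWt (D^[r] q) (l + s * r)) :
    ∃ r : ℕ, D^[r] q = 0 := by
  by_contra h
  push Not at h
  choose m hm using fun r => ne_zero_iff.1 (h r)
  have hmr : ∀ r, S.mwt (m r) = l + s * r := fun r => S.mwt_eq (hw r) (hm r)
  have inj : Function.Injective m := fun a b hab => by
    have := (hmr a).symm.trans ((congrArg S.mwt hab).trans (hmr b))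
    have h2 : s * ((a : ℤ) - b) = 0 := by linarith
    rcases mul_eq_zero.1 h2 with h2 | h2
    · exact absurd h2 hs
    · omega
  refine (Set.infinite_range_of_injective inj) ((Finsupp.finite_of_degree_le (σ := σ) q.totalDegree).subset ?_)
  rintro _ ⟨r, rfl⟩
  exact le_trans (le_totalDegree (mem_support_iff.2 (hm r))) (deg_iter hD q r)

theorem F_nil {q : P} {l : ℤ} (h : S.HasWt q l) : ∃ r : ℕ, S.F^[r] q = 0 :=
  S.eventually_zero S.degF (l := l) (-2) (by norm_num) fun r => by
    convert S.hasWt_iter_F h r using 1; ring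

theorem E_nil {q : P} {l : ℤ} (h : S.HasWt q l) : ∃ r : ℕ, S.E^[r] q = 0 :=
  S.eventually_zero S.degE (l := l) 2 (by norm_num) fun r => S.hasWt_iter_E h r

theorem exists_last {D : Derivation k P P} {q : P} (hq : q ≠ 0) (h : ∃ r : ℕ, D^[r] q = 0) :
    ∃ N : ℕ, D^[N] q ≠ 0 ∧ D^[N + 1] q = 0 := by
  classical
  obtain ⟨N, hN⟩ : ∃ N, Nat.find h = N + 1 :=
    Nat.exists_eq_succ_of_ne_zero fun h0 => hq (by simpa [h0] using Nat.find_spec h)
  exact ⟨N, Nat.find_min h (by omega), hN ▸ Nat.find_spec h⟩

/-- The action of `E` on the `F`-string through a highest weight vector. -/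
theorem E_iter_F {q : P} {m : ℤ} (h : S.HasWt q m) (he : S.E q = 0) (j : ℕ) :
    S.E (S.F^[j + 1] q) = ((j + 1 : k) * ((m : k) - j)) • S.F^[j] q := by
  induction j with
  | zero =>
    have := S.efq q
    rw [he, map_zero, sub_zero, h] at this
    simpa using this
  | succ j ih =>
    have h1 := S.efq (S.F^[j + 1] q)
    rw [S.hasWt_iter_F h (j + 1), ih, Derivation.map_smul, ← Function.iterate_succ_apply' S.F, ← Function.iterate_succ_apply' S.F] at h1
    rw [sub_eq_iff_eq_add.1 h1, ← add_smul]
    push_cast; ring_nf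

/-- The weight of a highest weight vector is the length of its `F`-string. -/
theorem highest {q : P} {m : ℤ} (h : S.HasWt q m) (he : S.E q = 0) (hq : q ≠ 0) :
    ∃ N : ℕ, (N : ℤ) = m ∧ S.F^[N + 1] q = 0 := by
  obtain ⟨N, hN, hN1⟩ := exists_last hq (S.F_nil h)
  refine ⟨N, ?_, hN1⟩
  have := S.E_iter_F h he N
  rw [hN1, map_zero, eq_comm, smul_eq_zero, or_iff_left hN, mul_eq_zero] at this
  rcases this with h1 | h1
  · exact absurd h1 (Nat.cast_add_one_ne_zero N)
  · exact_mod_cast (sub_eq_zero.1 h1).symm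

/-- The Casimir operator. -/
noncomputable def cas : P →ₗ[k] P :=
  (4 : k) • (S.F.toLinearMap ∘ₗ S.E.toLinearMap) + S.H.toLinearMap ∘ₗ S.H.toLinearMap +
    (2 : k) • S.H.toLinearMap

theorem cas_apply (q : P) : S.cas q = (4 : k) • S.F (S.E q) + S.H (S.H q) + (2 : k) • S.H q := rfl

theorem E_cas (q : P) : S.E (S.cas q) = S.cas (S.E q) := by
  have h1 := S.efq (S.E q)
  have h3 := S.heq (S.H q)
  have h4 := congrArg S.H (S.heq q)
  simp only [map_add, Derivation.map_smul] at h4
  simp only [cas_apply, map_add, Derivation.map_smul]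
  linear_combination (norm := (simp only [MvPolynomial.smul_eq_C_mul, map_ofNat]; ring))
    (4 : P) * h1 - h4 - h3

theorem hasWt_cas {q : P} {l : ℤ} (h : S.HasWt q l) : S.HasWt (S.cas q) l := by
  have h1 := S.hasWt_F (S.hasWt_E h)
  rw [add_sub_cancel_right] at h1
  rw [HasWt] at h1 h ⊢
  simp only [cas_apply, map_add, Derivation.map_smul, h1, h]
  module

/-- The invariants. -/
def inv : Subalgebra k P where
  carrier := {q | S.E q = 0 ∧ S.F q = 0}
  mul_mem' {a b} ha hb := by
    constructor <;> simp [Derivation.leibniz, ha.1, ha.2, hb.1, hb.2]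
  add_mem' {a b} ha hb := by constructor <;> simp [ha.1, ha.2, hb.1, hb.2]
  algebraMap_mem' c := ⟨Derivation.map_algebraMap _ c, Derivation.map_algebraMap _ c⟩

theorem mem_inv {q : P} : q ∈ S.inv ↔ S.E q = 0 ∧ S.F q = 0 := Iff.rfl

theorem H_inv {q : P} (h : q ∈ S.inv) : S.H q = 0 := by
  rw [← S.efq, h.1, h.2]; simp

theorem cas_inv {q : P} (h : q ∈ S.inv) : S.cas q = 0 := by simp [cas_apply, S.H_inv h, h.1]

theorem cas_mul {i : P} (h : i ∈ S.inv) (q : P) : S.cas (i * q) = i * S.cas q := by
  simp only [cas_apply, Derivation.leibniz, h.1, h.2, S.H_inv h, smul_eq_mul, mul_zero, add_zero,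
    mul_add, mul_smul_comm]

theorem wcomp_ker {v : P} (hv : S.cas v = 0) (l : ℤ) : S.cas (S.wcomp l v) = 0 :=
  S.wcomp_eq_zero S.cas 0 (fun q l h => by simpa using S.hasWt_cas h) hv l

theorem ker_wt {v : P} {l : ℤ} (h : S.HasWt v l) (hc : S.cas v = 0) : v ∈ S.inv := by
  by_cases hv : v = 0
  · subst hv; exact zero_mem _
  obtain ⟨r, hr, hr1⟩ := exists_last hv (S.E_nil h)
  have hiter : ∀ j, S.cas (S.E^[j] v) = 0 := fun j => by
    induction j with
    | zero => simpa using hc
    | succ j ih => rw [Function.iterate_succ_apply', ← S.E_cas, ih, map_zero]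
  have hu := S.hasWt_iter_E h r
  have he : S.E (S.E^[r] v) = 0 := by rwa [← Function.iterate_succ_apply' S.E]
  obtain ⟨N, hN, hN1⟩ := S.highest hu he hr
  have hm : (N : k) * (N + 2) = 0 := by
    have := hiter r
    rw [cas_apply, he, map_zero, smul_zero, zero_add, hu, Derivation.map_smul, hu, smul_smul, smul_smul, ← add_smul,
      smul_eq_zero, or_iff_left hr, ← hN] at this
    push_cast at this
    linear_combination this
  obtain rfl : N = 0 := by
    rcases mul_eq_zero.1 hm with hm | hm
    · exact_mod_cast hm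
    · exact absurd hm (by exact_mod_cast (show N + 2 ≠ 0 by omega))
  have hFu : S.F (S.E^[r] v) = 0 := hN1
  rcases r with _ | r
  · exact ⟨he, hFu⟩
  exfalso
  have hw := S.hasWt_iter_E h r
  generalize hwdef : S.E^[r] v = w at hw
  rw [Function.iterate_succ_apply', hwdef] at hr hFu
  have hw2 : (l + 2 * (r : ℤ)) = -2 := by push_cast at hN; omega
  rw [hw2] at hw
  have hstr : ∀ j : ℕ, S.E (S.F^[j + 1] w) = ((j + 1 : k) * (-2 - j)) • S.F^[j] w := by
    intro j
    induction j with
    | zero =>
      have := S.efq w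
      rw [hFu, sub_zero, hw] at this
      simpa using this
    | succ j ih =>
      have h1 := S.efq (S.F^[j + 1] w)
      rw [S.hasWt_iter_F hw (j + 1), ih, Derivation.map_smul, ← Function.iterate_succ_apply' S.F, ← Function.iterate_succ_apply' S.F] at h1
      rw [sub_eq_iff_eq_add.1 h1, ← add_smul]
      push_cast; ring_nf
  obtain ⟨M, hM, hM1⟩ := exists_last (D := S.F) (q := w) (fun h0 => hr (by rw [h0, map_zero])) (S.F_nil hw)
  have := hstr M
  rw [hM1, map_zero, eq_comm, smul_eq_zero, or_iff_left hM, mul_eq_zero] at this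
  rcases this with h1 | h1
  · exact Nat.cast_add_one_ne_zero M h1
  · exact Nat.cast_ne_zero (R := k).2 (show M + 2 ≠ 0 by omega) (by push_cast; linear_combination -h1)

theorem cas_ker {v : P} : S.cas v = 0 ↔ v ∈ S.inv := by
  refine ⟨fun h => ?_, S.cas_inv⟩
  rw [← S.sum_wcomp v]
  exact sum_mem fun l _ => S.ker_wt (S.hasWt_wcomp l v) (S.wcomp_ker h l)

theorem cas_ker_sq {v : P} (h : S.cas (S.cas v) = 0) : S.cas v = 0 := by
  rw [← S.sum_wcomp v, map_sum]
  refine Finset.sum_eq_zero fun l _ => ?_
  have hl := S.wcomp_eq_zero (S.cas ∘ₗ S.cas) 0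
    (fun q l hq => by simpa using S.hasWt_cas (S.hasWt_cas hq)) h l
  have hw := S.hasWt_wcomp l v
  generalize S.wcomp l v = q at hl hw
  have hu := S.cas_ker.1 hl
  by_contra hne
  have h0 : l = 0 := by
    have := (S.H_inv hu).symm.trans (S.hasWt_cas hw)
    rw [eq_comm, smul_eq_zero, or_iff_left hne] at this
    exact_mod_cast this
  subst h0
  have he : S.cas (S.E q) = 0 := by rw [← S.E_cas, hu.1]
  have := (S.H_inv (S.cas_ker.1 he)).symm.trans (S.hasWt_E hw)
  rw [eq_comm, smul_eq_zero] at this
  rcases this with h2 | h2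
  · norm_num at h2
  · exact hne (by simp [cas_apply, h2, show S.H q = 0 by simpa [HasWt] using hw])

theorem isCompl : IsCompl (LinearMap.ker S.cas) (LinearMap.range S.cas) := by
  refine ⟨disjoint_iff_inf_le.2 ?_, codisjoint_iff.2 (eq_top_iff.2 fun x _ => ?_)⟩
  · rintro _ ⟨h, v, rfl⟩
    exact S.cas_ker_sq h
  let V := restrictTotalDegree σ k x.totalDegree
  have hV : ∀ q ∈ V, S.cas q ∈ V := fun q hq => by
    rw [mem_restrictTotalDegree] at hq
    have one : ∀ {D : Derivation k P P}, (∀ v, (D (X v)).IsHomogeneous 1) → ∀ p : P,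
        p ∈ V → D p ∈ V := fun hD p hp => by
      rw [mem_restrictTotalDegree] at hp ⊢
      exact (deg_iter hD p 1).trans hp
    have hq' : q ∈ V := (mem_restrictTotalDegree _ _ _).2 hq
    exact add_mem (add_mem (V.smul_mem _ (one S.degF _ (one S.degE _ hq')))
      (one S.degH _ (one S.degH _ hq'))) (V.smul_mem _ (one S.degH _ hq'))
  have : Module.Finite k V := inferInstance
  let T : V →ₗ[k] V := S.cas.restrict hV
  have hd : Disjoint (LinearMap.ker T) (LinearMap.range T) := by
    refine disjoint_iff_inf_le.2 ?_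
    rintro _ ⟨h, v, rfl⟩
    exact Subtype.ext (S.cas_ker_sq (congrArg Subtype.val h))
  have htop := Submodule.eq_top_of_disjoint _ _ (le_of_eq (by rw [add_comm]; exact (LinearMap.finrank_range_add_finrank_ker T).symm)) hd
  obtain ⟨a, ha, b, ⟨c, rfl⟩, hab⟩ := Submodule.mem_sup.1
    (htop ▸ Submodule.mem_top : (⟨x, (mem_restrictTotalDegree _ _ _).2 le_rfl⟩ : V) ∈ _)
  exact Submodule.mem_sup.2 ⟨a.1, congrArg Subtype.val ha, S.cas c.1, ⟨_, rfl⟩, congrArg Subtype.val hab⟩

/-- The Reynolds operator. -/
noncomputable def rey : P →ₗ[k] P := Submodule.projection _ _ S.isCompl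

theorem rey_mem (q : P) : S.rey q ∈ S.inv := S.cas_ker.1 (Submodule.projection_apply_mem S.isCompl q)

theorem rey_of_mem {q : P} (h : q ∈ S.inv) : S.rey q = q :=
  Submodule.projection_apply_left S.isCompl ⟨q, S.cas_inv h⟩

theorem rey_mul {i : P} (h : i ∈ S.inv) (q : P) : S.rey (i * q) = i * S.rey q := by
  obtain ⟨a, ha, b, ⟨c, rfl⟩, rfl⟩ := Submodule.mem_sup.1
    (S.isCompl.sup_eq_top ▸ Submodule.mem_top : q ∈ _)
  have z : ∀ c, S.rey (S.cas c) = 0 := fun c =>
    Submodule.projection_apply_right S.isCompl ⟨_, LinearMap.mem_range_self _ c⟩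
  rw [mul_add, map_add, map_add, ← S.cas_mul h, z, z, add_zero, add_zero,
    S.rey_of_mem (mul_mem h (S.cas_ker.1 ha)), S.rey_of_mem (S.cas_ker.1 ha)]

theorem comp_mem {q : P} (h : q ∈ S.inv) (m : ℕ) : homogeneousComponent m q ∈ S.inv :=
  ⟨by rw [← comp_deriv S.degE, h.1, map_zero], by rw [← comp_deriv S.degF, h.2, map_zero]⟩

/-- Hilbert's argument. -/
theorem inv_fg : S.inv.FG := by
  classical
  let G : Set P := {q | q ∈ S.inv ∧ ∃ m, 0 < m ∧ q.IsHomogeneous m}
  obtain ⟨T, hT, hspan⟩ := (Submodule.fg_span_iff_fg_span_finset_subset G).1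
    (IsNoetherian.noetherian (Submodule.span P G))
  refine ⟨T, le_antisymm (Algebra.adjoin_le fun q hq => (hT hq).1) ?_⟩
  suffices h : ∀ m (q : P), q ∈ S.inv → q.IsHomogeneous m → q ∈ Algebra.adjoin k (T : Set P) by
    intro q hq
    rw [← sum_homogeneousComponent q]
    exact sum_mem fun m _ => h m _ (S.comp_mem hq m) (homogeneousComponent_isHomogeneous m q)
  intro m
  induction m using Nat.strong_induction_on with
  | _ m ih =>
    intro q hq hhom
    rcases Nat.eq_zero_or_pos m with rfl | hm
    · rw [totalDegree_eq_zero_iff_eq_C.1 (Nat.le_zero.1 hhom.totalDegree_le), ← algebraMap_eq]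
      exact Subalgebra.algebraMap_mem _ _
    obtain ⟨r, hr⟩ := Submodule.mem_span_finset'.1 (hspan ▸ Submodule.subset_span (show q ∈ G from ⟨hq, m, hm, hhom⟩) : q ∈ Submodule.span P (T : Set P))
    have h1 : q = ∑ f : T, (f : P) * S.rey (r f) := by
      conv_lhs => rw [← S.rey_of_mem hq, ← hr, map_sum]
      refine Finset.sum_congr rfl fun f _ => ?_
      rw [smul_eq_mul, mul_comm, S.rey_mul (hT f.2).1]
    rw [← homogeneousComponent_eq_self hhom, h1, map_sum]
    refine sum_mem fun f _ => ?_
    obtain ⟨-, e, he, hfe⟩ := hT f.2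
    conv in (S.rey (r f)) => rw [← sum_homogeneousComponent (S.rey (r f))]
    rw [Finset.mul_sum, map_sum]
    refine sum_mem fun i _ => ?_
    rw [homogeneousComponent_of_mem (hfe.mul (homogeneousComponent_isHomogeneous i _))]
    split_ifs with hi
    · exact mul_mem (Algebra.subset_adjoin f.2)
        (ih i (by omega) _ (S.comp_mem (S.rey_mem _) i) (homogeneousComponent_isHomogeneous i _))
    · exact zero_mem _

end SL2

end GrothLib.Weitz
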