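import Groth.Agent.Lib.Weitz.Basic
import Mathlib.Algebra.BigOperators.Fin
import Mathlib.Data.Nat.Factorial.Basic

/-!
# Extending an sl₂ action by the standard representation

The kernel of `E` on `k[τ]` is the image of the invariants of `k[τ ⊕ Bool]`.
-/

set_option autoImplicit false

open MvPolynomial

namespace GrothLib.Weitz

universe u v

variable {k : Type u} [Field k] {τ : Type v}

namespace SL2

variable (S : SL2 k τ)

local notation "Q" => MvPolynomial (τ ⊕ Bool) k
local notation "ι" => (rename Sum.inl : MvPolynomial τ k →ₐ[k] MvPolynomial (τ ⊕ Bool) k)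

/-- `E` on the extended ring. -/
noncomputable def E' : Derivation k Q Q :=
  mkDerivation k (Sum.elim (fun v => ι (S.E (X v))) fun c => if c then 0 else X (Sum.inr true))

/-- `F` on the extended ring. -/
noncomputable def F' : Derivation k Q Q :=
  mkDerivation k (Sum.elim (fun v => ι (S.F (X v))) fun c => if c then X (Sum.inr false) else 0)

/-- `H` on the extended ring. -/
noncomputable def H' : Derivation k Q Q :=
  mkDerivation k (Sum.elim (fun v => ι (S.H (X v))) fun c => if c then X (Sum.inr true) else -X (Sum.inr false))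

theorem deriv_rename {D : Derivation k (MvPolynomial τ k) (MvPolynomial τ k)} {D' : Derivation k Q Q}
    (h : ∀ v, D' (X (Sum.inl v)) = ι (D (X v))) (p : MvPolynomial τ k) : D' (ι p) = ι (D p) := by
  induction p using MvPolynomial.induction_on with
  | C a => simp
  | add p q hp hq => simp [map_add, hp, hq]
  | mul_X p v hp => simp [Derivation.leibniz, hp, h]

theorem E'_ι (p : MvPolynomial τ k) : S.E' (ι p) = ι (S.E p) :=
  deriv_rename (fun v => by simp [E']) p

theorem F'_ι (p : MvPolynomial τ k) : S.F' (ι p) = ι (S.F p) :=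
  deriv_rename (fun v => by simp [F']) p

theorem H'_ι (p : MvPolynomial τ k) : S.H' (ι p) = ι (S.H p) :=
  deriv_rename (fun v => by simp [H']) p

theorem E'a : S.E' (X (Sum.inr false)) = X (Sum.inr true) := by simp [E']
theorem E'b : S.E' (X (Sum.inr true)) = 0 := by simp [E']
theorem F'a : S.F' (X (Sum.inr false)) = 0 := by simp [F']
theorem F'b : S.F' (X (Sum.inr true)) = X (Sum.inr false) := by simp [F']
theorem H'a : S.H' (X (Sum.inr false)) = -X (Sum.inr false) := by simp [H']
theorem H'b : S.H' (X (Sum.inr true)) = X (Sum.inr true) := by simp [H']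

variable [Finite τ]

/-- The extended action. -/
noncomputable def ext : SL2 k (τ ⊕ Bool) where
  E := S.E'
  F := S.F'
  H := S.H'
  wt := Sum.elim S.wt fun c => if c then 1 else -1
  hH := by
    rintro (v | c)
    · rw [← rename_X Sum.inl v, H'_ι, S.hH, map_smul, Sum.elim_inl]
    · cases c <;> simp [H'a, H'b]
  degE := by
    rintro (v | c)
    · rw [← rename_X Sum.inl v, E'_ι]; exact (S.degE v).rename_isHomogeneous
    · cases c <;> simp [E'a, E'b, isHomogeneous_X, isHomogeneous_zero]
  degF := by
    rintro (v | c)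
    · rw [← rename_X Sum.inl v, F'_ι]; exact (S.degF v).rename_isHomogeneous
    · cases c <;> simp [F'a, F'b, isHomogeneous_X, isHomogeneous_zero]
  ef := by
    rintro (v | c)
    · rw [← rename_X Sum.inl v, F'_ι, E'_ι, E'_ι, F'_ι, ← map_sub, H'_ι, S.ef]
    · cases c <;> simp [E'a, E'b, F'a, F'b, H'a, H'b]
  he := by
    rintro (v | c)
    · rw [← rename_X Sum.inl v, H'_ι, E'_ι, E'_ι, H'_ι, ← map_sub, S.he, map_smul]
    · cases c <;> simp [E'a, E'b, H'a, H'b, two_smul]
  hf := by
    rintro (v | c)
    · rw [← rename_X Sum.inl v, H'_ι, F'_ι, F'_ι, H'_ι, ← map_sub, S.hf, map_smul]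
    · cases c
      · simp [F'a, H'a]
      · simp only [F'b, H'b, H'a, neg_smul, two_smul]; abel

/-- Evaluation at `(1, 0)`. -/
noncomputable def ev : Q →ₐ[k] MvPolynomial τ k :=
  aeval (Sum.elim X fun c => if c then 0 else 1)

omit [Finite τ] in
theorem ev_ι (p : MvPolynomial τ k) : ev (τ := τ) (ι p) = p := by
  have : (ev (k := k) (τ := τ)).comp ι = AlgHom.id k _ := MvPolynomial.algHom_ext fun v => by simp [ev]
  exact AlgHom.congr_fun this p

theorem E_ev (p : Q) : S.E (ev p) = ev (S.E' p) := by
  induction p using MvPolynomial.induction_on with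
  | C a => simp [ev]
  | add p q hp hq => simp [map_add, hp, hq]
  | mul_X p v hp =>
    rcases v with v | c
    · have h : S.E' (X (Sum.inl v)) = ι (S.E (X v)) := by simp [E']
      have h2 : ev (τ := τ) (X (Sum.inl v) : Q) = X v := by simp [ev]
      simp [Derivation.leibniz, hp, h, h2, ev_ι]
    · cases c <;> simp [ev, Derivation.leibniz, E'a, E'b] at * <;> simp [hp]

theorem ev_inv {p : Q} (hp : p ∈ S.ext.inv) : S.E (ev p) = 0 := by
  rw [E_ev, show S.E' p = 0 from hp.1, map_zero]

variable [CharZero k]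

/-- Every element of `ker E` comes from an invariant. -/
theorem exists_lift_wt {f : MvPolynomial τ k} {l : ℤ} (hw : S.HasWt f l) (he : S.E f = 0) :
    ∃ p ∈ S.ext.inv, ev p = f := by
  by_cases hf : f = 0
  · exact ⟨0, zero_mem _, by simp [hf]⟩
  obtain ⟨m, rfl, hm1⟩ := S.highest hw he hf
  let c : ℕ → k := fun j => (-1) ^ j / (j.factorial : k)
  have hc : ∀ j, c (j + 1) * ((j : k) + 1) = -c j := fun j => by
    have h1 : ((j.factorial : ℕ) : k) ≠ 0 := Nat.cast_ne_zero.2 j.factorial_ne_zero
    have h2 : (j : k) + 1 ≠ 0 := Nat.cast_add_one_ne_zero j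
    simp only [c, Nat.factorial_succ, Nat.cast_mul, Nat.cast_add, Nat.cast_one]
    field_simp; ring
  let s : ℕ → Q := fun j => ι (S.F^[j] f)
  let a : Q := X (Sum.inr false)
  let b : Q := X (Sum.inr true)
  have hEa : S.E' a = b := S.E'a
  have hEb : S.E' b = 0 := S.E'b
  have hFa : S.F' a = 0 := S.F'a
  have hFb : S.F' b = a := S.F'b
  refine ⟨∑ j ∈ Finset.range (m + 1), c j • (s j * a ^ (m - j) * b ^ j), ⟨?_, ?_⟩, ?_⟩
  · change S.E' _ = 0
    let A : ℕ → Q := fun j => c j • (S.E' (s j) * a ^ (m - j) * b ^ j)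
    let B : ℕ → Q := fun j => c j • (((m - j : ℕ) : Q) * s j * a ^ (m - j - 1) * b ^ (j + 1))
    have hterm : ∀ j, S.E' (c j • (s j * a ^ (m - j) * b ^ j)) = A j + B j := fun j => by
      simp only [A, B, Derivation.map_smul, Derivation.leibniz, Derivation.leibniz_pow, hEa, hEb,
        smul_eq_mul, mul_zero, smul_zero, zero_add, add_zero, nsmul_eq_mul, ← smul_add, pow_succ]
      congr 1
      ring
    rw [map_sum, Finset.sum_congr rfl fun j _ => hterm j, Finset.sum_add_distrib,
      Finset.sum_range_succ' A, Finset.sum_range_succ B]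
    have hA0 : A 0 = 0 := by simp [A, s, E'_ι, he]
    have hBm : B m = 0 := by simp [B]
    rw [hA0, hBm, add_zero, add_zero, ← Finset.sum_add_distrib]
    refine Finset.sum_eq_zero fun j hj => ?_
    rw [Finset.mem_range] at hj
    obtain ⟨d, rfl⟩ : ∃ d, m = j + 1 + d := Nat.exists_eq_add_of_le hj
    simp only [A, B, s, E'_ι, S.E_iter_F hw he j, map_smul,
      show j + 1 + d - (j + 1) = d by omega, show j + 1 + d - j = d + 1 by omega, Nat.add_sub_cancel]
    rw [← map_natCast (algebraMap k Q) (d + 1), ← Algebra.smul_def, smul_mul_assoc, smul_mul_assoc,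
      smul_mul_assoc, smul_mul_assoc, smul_smul, smul_smul, ← add_smul]
    convert zero_smul k _ using 2
    push_cast
    linear_combination ((d : k) + 1) * hc j
  · change S.F' _ = 0
    let A : ℕ → Q := fun j => c j • (S.F' (s j) * a ^ (m - j) * b ^ j)
    let B : ℕ → Q := fun j => c j • ((j : Q) * s j * a ^ (m - j + 1) * b ^ (j - 1))
    have hterm : ∀ j, S.F' (c j • (s j * a ^ (m - j) * b ^ j)) = B j + A j := fun j => by
      simp only [A, B, Derivation.map_smul, Derivation.leibniz, Derivation.leibniz_pow, hFa, hFb,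
        smul_eq_mul, mul_zero, smul_zero, zero_add, add_zero, nsmul_eq_mul, ← smul_add, pow_succ]
      congr 1
      ring
    rw [map_sum, Finset.sum_congr rfl fun j _ => hterm j, Finset.sum_add_distrib,
      Finset.sum_range_succ' B, Finset.sum_range_succ A]
    have hA0 : B 0 = 0 := by simp [B]
    have hlast : S.F (S.F^[m] f) = 0 := (Function.iterate_succ_apply' S.F m f).symm.trans hm1
    have hBm : A m = 0 := by simp [A, s, F'_ι, hlast]
    rw [hA0, hBm, add_zero, add_zero, ← Finset.sum_add_distrib]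
    refine Finset.sum_eq_zero fun j hj => ?_
    rw [Finset.mem_range] at hj
    simp only [A, B, s, F'_ι, ← Function.iterate_succ_apply' S.F,
      show m - (j + 1) + 1 = m - j by omega, Nat.add_sub_cancel]
    rw [← map_natCast (algebraMap k Q) (j + 1), ← Algebra.smul_def, smul_mul_assoc, smul_mul_assoc,
      smul_smul, ← add_smul]
    convert zero_smul k _ using 2
    push_cast
    linear_combination hc j
  · rw [map_sum, Finset.sum_eq_single 0]
    · simp [c, s, a, ev_ι, map_smul, ev]
      exact ev_ι f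
    · intro j _ hj
      simp [b, ev, zero_pow hj]
    · simp

theorem exists_lift {f : MvPolynomial τ k} (he : S.E f = 0) : ∃ p ∈ S.ext.inv, ev p = f := by
  suffices h : f ∈ S.ext.inv.map (ev (k := k) (τ := τ)) by simpa [Subalgebra.mem_map] using h
  rw [← S.sum_wcomp f]
  refine sum_mem fun l _ => ?_
  have hl := S.wcomp_eq_zero S.E.toLinearMap 2 (fun q l h => S.hasWt_E h) he l
  obtain ⟨p, hp, h⟩ := S.exists_lift_wt (S.hasWt_wcomp l f) hl
  exact ⟨p, hp, h⟩

theorem ker_E_fg : ∃ A : Subalgebra k (MvPolynomial τ k), A.FG ∧ ∀ f, f ∈ A ↔ S.E f = 0 := by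
  refine ⟨S.ext.inv.map ev, S.ext.inv_fg.map _, fun f => ⟨?_, fun h => ?_⟩⟩
  · rintro ⟨p, hp, rfl⟩; exact S.ev_inv hp
  · obtain ⟨p, hp, rfl⟩ := S.exists_lift h
    exact ⟨p, hp, rfl⟩

end SL2

end GrothLib.Weitz
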